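import Groth.Prelude.Def_GrTwist
import Groth.Agent.InvX.Pullback
import Groth.Agent.DivX.MeroMod
import Groth.Agent.Proj16.Map
import Groth.Agent.ProjUPX.TwistFrame
import Groth.Agent.TwistX.Global
import Groth.Agent.PnCoh.TwistH0
import Groth.Agent.PnCoh.Chow.PullFrame
import Groth.Agent.ZeroSchX.Basic
import Groth.Prelude.Def_PicF2

/-!
# A hyperplane of projective space is the projective space of one dimension less
-/

set_option autoImplicit false
set_option linter.style.haveILetI false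
set_option linter.unusedSectionVars false
set_option backward.isDefEq.respectTransparency false
set_option backward.isDefEq.respectTransparency.types false
set_option maxHeartbeats 1000000

universe u

open CategoryTheory CategoryTheory.Limits AlgebraicGeometry TopologicalSpace Opposite HomogeneousLocalization MvPolynomial
open scoped HomogeneousIdeal

noncomputable section

namespace Groth.Agent.LinHyp

open Groth.Agent

variable {k : Type u} [Field k] {n : ℕ}

/-- A linear form is the sum of its monomials `c_j X_j`. -/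
theorem linForm_eq_sum {m : ℕ} {a : MvPolynomial (Fin m) k} (ha : a.IsHomogeneous 1) :
    a = ∑ j, C (coeff (Finsupp.single j 1) a) * X j := by
  classical
  refine ext _ _ fun e => ?_
  rw [coeff_sum]
  by_cases he : ∃ j, e = Finsupp.single j 1
  · obtain ⟨j, rfl⟩ := he
    rw [Finset.sum_eq_single j]
    · simp [coeff_C_mul, coeff_X]
    · intro b _ hb
      rw [coeff_C_mul, coeff_X, if_neg, mul_zero]
      exact fun h => hb (Finsupp.single_left_injective one_ne_zero h)
    · simp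
  · push Not at he
    rw [Finset.sum_eq_zero fun j _ => by rw [coeff_C_mul, coeff_X, if_neg (fun h => he j h.symm), mul_zero]]
    by_contra h
    have h1 : e.degree = 1 := by
      by_contra h2
      exact h (ha.coeff_eq_zero h2)
    obtain ⟨j, hj⟩ : ∃ j, e j ≠ 0 := by
      by_contra hh
      push Not at hh
      simp [show e = 0 from Finsupp.ext hh] at h1
    refine he j (Finsupp.ext fun i => ?_)
    have hs : ∑ i, e i = 1 := by rw [← Finsupp.degree_eq_sum]; exact h1
    rcases eq_or_ne i j with rfl | hij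
    · have := Finset.single_le_sum (f := fun i => e i) (fun _ _ => Nat.zero_le _) (Finset.mem_univ i)
      simp only [Finsupp.single_eq_same]
      omega
    · rw [Finsupp.single_eq_of_ne hij]
      have := Finset.sum_le_sum_of_subset (f := fun i => e i) (Finset.subset_univ {i, j})
      rw [Finset.sum_pair hij] at this
      omega

/-- Eliminating one variable by a linear form. -/
theorem exists_elim (a : MvPolynomial (Fin (n + 2)) k) (ha : a.IsHomogeneous 1) (ha0 : a ≠ 0) :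
    ∃ ψ : MvPolynomial (Fin (n + 2)) k →ₐ[k] MvPolynomial (Fin (n + 1)) k, Function.Surjective ψ ∧
      (∀ (i : ℕ) (p : MvPolynomial (Fin (n + 2)) k), p.IsHomogeneous i → (ψ p).IsHomogeneous i) ∧
      ∀ p, ψ p = 0 ↔ a ∣ p := by
  classical
  let c : Fin (n + 2) → k := fun j => coeff (Finsupp.single j 1) a
  have hsum : a = ∑ j, C (c j) * X j := linForm_eq_sum ha
  obtain ⟨i₀, hi₀⟩ : ∃ i, c i ≠ 0 := by
    by_contra h
    push Not at h
    exact ha0 (hsum.trans (Finset.sum_eq_zero fun j _ => by rw [h j, map_zero, zero_mul]))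
  let v : MvPolynomial (Fin (n + 1)) k := C (-(c i₀)⁻¹) * ∑ j, C (c (i₀.succAbove j)) * X j
  let w : Fin (n + 2) → MvPolynomial (Fin (n + 1)) k := Fin.insertNth i₀ v X
  let ψ : MvPolynomial (Fin (n + 2)) k →ₐ[k] MvPolynomial (Fin (n + 1)) k := aeval w
  let ι : MvPolynomial (Fin (n + 1)) k →ₐ[k] MvPolynomial (Fin (n + 2)) k := rename i₀.succAbove
  have hψX : ∀ j, ψ (X (i₀.succAbove j)) = X j := fun j => by
    simp [ψ, w]
  have hψ0 : ψ (X i₀) = v := by simp [ψ, w]
  have hsplit : a = C (c i₀) * X i₀ + ∑ j, C (c (i₀.succAbove j)) * X (i₀.succAbove j) :=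
    hsum.trans (Fin.sum_univ_succAbove _ i₀)
  have hψι : ∀ q, ψ (ι q) = q := fun q => by
    have : ψ.comp ι = AlgHom.id k _ := algHom_ext fun j => by simp [ι, hψX]
    exact AlgHom.congr_fun this q
  have hψa : ψ a = 0 := by
    rw [hsplit, map_add, map_mul, hψ0, map_sum]
    simp only [map_mul, hψX, algHom_C, algebraMap_eq, v]
    rw [← mul_assoc, ← map_mul, mul_neg, mul_inv_cancel₀ hi₀, map_neg, map_one, neg_one_mul,
      neg_add_cancel]
  refine ⟨ψ, fun q => ⟨ι q, hψι q⟩, fun i p hp => ?_, fun p => ⟨fun hp => ?_, fun ⟨q, hq⟩ => ?_⟩⟩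
  · have hw : ∀ j, (w j).IsHomogeneous 1 := fun j => by
      rcases Fin.eq_self_or_eq_succAbove i₀ j with rfl | ⟨j', rfl⟩
      · simp only [w, Fin.insertNth_apply_same, v]
        refine IsHomogeneous.C_mul (IsHomogeneous.sum _ _ _ fun l _ => ?_) _
        exact (isHomogeneous_X k l).C_mul _
      · simp only [w, Fin.insertNth_apply_succAbove]
        exact isHomogeneous_X k j'
    have h := hp.aeval w hw
    rwa [one_mul] at h
  · let q : MvPolynomial (Fin (n + 2)) k →+* MvPolynomial (Fin (n + 2)) k ⧸ Ideal.span {a} := Ideal.Quotient.mk _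
    have hq : q.comp (ι.comp ψ).toRingHom = q := by
      refine ringHom_ext (fun r => by simp) fun j => ?_
      show q (ι (ψ (X j))) = q (X j)
      rcases Fin.eq_self_or_eq_succAbove i₀ j with rfl | ⟨j', rfl⟩
      · rw [hψ0]
        refine Ideal.Quotient.eq.2 (Ideal.mem_span_singleton.2 ⟨C (-(c j)⁻¹), ?_⟩)
        simp only [v, map_mul, map_sum, ι, rename_C, rename_X]
        rw [hsplit, add_mul, mul_comm (C (c j) * X j), mul_comm (∑ _, _) (C (-(c j)⁻¹)), ← mul_assoc,
          ← map_mul, neg_mul, inv_mul_cancel₀ hi₀]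
        simp only [map_neg, map_one]
        ring
      · rw [hψX]; simp [ι]
    have h := RingHom.congr_fun hq p
    rw [show q.comp (ι.comp ψ).toRingHom p = q (ι (ψ p)) from rfl, hp, map_zero, map_zero] at h
    exact Ideal.mem_span_singleton.1 (Ideal.Quotient.eq_zero_iff_mem.1 h.symm)
  · rw [hq, map_mul, hψa, zero_mul]

theorem irrelevant_eq_span_degOne (N : ℕ) :
    (HomogeneousIdeal.irrelevant (CohB1.polyGrading N k)).toIdeal =
      Ideal.span (CohB1.polyGrading N k 1 : Set (MvPolynomial (Fin (N + 1)) k)) := by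
  refine le_antisymm ((HomogeneousIdeal.toIdeal_irrelevant_le _).2 fun i hi x hx => ?_)
    (Ideal.span_le.2 fun x hx => HomogeneousIdeal.mem_irrelevant_of_mem _ one_pos hx)
  have hsub : (X '' (Set.univ : Set (Fin (N + 1))) : Set (MvPolynomial (Fin (N + 1)) k)) ⊆
      (CohB1.polyGrading N k 1 : Set (MvPolynomial (Fin (N + 1)) k)) := by
    rintro _ ⟨j, -, rfl⟩
    exact isHomogeneous_X k j
  refine Ideal.span_mono hsub (mem_ideal_span_X_image.2 fun m hm => ?_)
  by_contra h
  push Not at h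
  have hm0 : m = 0 := Finsupp.ext fun j => h j trivial
  have := (hx : x.IsHomogeneous i).coeff_eq_zero (d := m) (by rw [hm0]; simpa using hi.ne)
  exact (mem_support_iff.1 hm) this

end Groth.Agent.LinHyp

namespace Groth.Agent.LinHyp

open Groth.Agent

variable {R A B : Type u} [CommRing R] [CommRing A] [Algebra R A] [CommRing B] [Algebra R B]
  {𝒜 : ℕ → Submodule R A} [GradedAlgebra 𝒜] {ℬ : ℕ → Submodule R B} [GradedAlgebra ℬ]

/-- A surjective graded map reaches the irrelevant ideal. -/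
theorem irrelevant_le_map {ψ : 𝒜 →+*ᵍ ℬ} (hψ : Function.Surjective ψ) : ℬ₊ ≤ (𝒜₊).map ψ := by
  show (ℬ₊).toIdeal ≤ ((𝒜₊).map ψ).toIdeal
  refine (HomogeneousIdeal.toIdeal_irrelevant_le _).2 fun i hi b hb => ?_
  obtain ⟨a, ha, rfl⟩ := Proj16.exists_mem_of_surjective ψ hψ (n := i) hb
  exact Ideal.mem_map_of_mem _ (HomogeneousIdeal.mem_irrelevant_of_mem _ hi ha)

theorem exists_degOne (hgen : (HomogeneousIdeal.irrelevant 𝒜).toIdeal = Ideal.span (𝒜 1 : Set A))
    (x : ProjectiveSpectrum 𝒜) : ∃ g ∈ 𝒜 1, g ∉ x.asHomogeneousIdeal := by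
  by_contra hc
  push Not at hc
  exact x.not_irrelevant_le (show (HomogeneousIdeal.irrelevant 𝒜).toIdeal ≤ x.asHomogeneousIdeal.toIdeal by
    rw [hgen, Ideal.span_le]; exact fun g hg => hc g hg)

theorem globalOf_eq_smul {a t : A} (ha : a ∈ 𝒜 1) (ht : t ∈ 𝒜 1) :
    AModX.res (Twist.twist 𝒜 ((1 : ℕ) : ℤ)) (le_top : Proj.basicOpen 𝒜 t ≤ ⊤) (Twist.globalOf 𝒜 ⟨a, ha⟩) =
      (Proj.awayToSection 𝒜 t).hom (Away.mk 𝒜 ht 1 a (by rwa [one_smul])) •
        AModX.res (Twist.twist 𝒜 ((1 : ℕ) : ℤ)) (le_top : Proj.basicOpen 𝒜 t ≤ ⊤)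
          (Twist.globalOf 𝒜 ⟨t, ht⟩) := by
  refine Subtype.ext (funext fun x => Subtype.ext ?_)
  refine Eq.trans ?_ (Twist.coe_smul_val ((1 : ℕ) : ℤ) x.1 _ _).symm
  erw [ProjectiveSpectrum.Proj.awayToSection_apply]
  rw [Away.val_mk]
  exact ProjUPX.loc_aux _ a t x.2 _

/-- Pullback of `O(1)` along the closed immersion of a graded quotient. -/
theorem nonempty_pullback_twist_iso (ψ : 𝒜 →+*ᵍ ℬ) (hψ : Function.Surjective ψ)
    (hgen : (HomogeneousIdeal.irrelevant 𝒜).toIdeal = Ideal.span (𝒜 1 : Set A)) :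
    Nonempty ((Scheme.Modules.pullback (Proj.map ψ (irrelevant_le_map hψ))).obj (Twist.twist 𝒜 ((1 : ℕ) : ℤ)) ≅
      Twist.twist ℬ ((1 : ℕ) : ℤ)) := by
  let r := Proj.map ψ (irrelevant_le_map hψ)
  let M := Twist.twist 𝒜 ((1 : ℕ) : ℤ)
  let N := Twist.twist ℬ ((1 : ℕ) : ℤ)
  let c : M ⟶ (Scheme.Modules.pushforward r).obj N := GrTwist.comap ψ (irrelevant_le_map hψ) ((1 : ℕ) : ℤ)
  let adj := Scheme.Modules.pullbackPushforwardAdjunction r
  let φ : (Scheme.Modules.pullback r).obj M ⟶ N := (adj.homEquiv M N).symm c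
  have hφ : adj.unit.app M ≫ (Scheme.Modules.pushforward r).map φ = c := by
    exact (adj.homEquiv_unit M N φ).symm.trans (Equiv.apply_symm_apply (adj.homEquiv M N) c)
  haveI : IsIso φ := by
    refine DivX.isIso_of_frames φ fun y => ?_
    obtain ⟨t, ht, hty⟩ := exists_degOne hgen (r y)
    let U := Proj.basicOpen 𝒜 t
    let e : Γ(M, U) := AModX.res M (le_top : U ≤ ⊤) (Twist.globalOf 𝒜 ⟨t, ht⟩)
    have he : InvX.IsFrame e := TwistX.isFrame_res_globalOf ht (fun x => x.2)
    refine ⟨r ⁻¹ᵁ U, hty, InvX.pullElt r e, InvX.isFrame_pullElt (r := r) he, ?_⟩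
    have h1 : φ.app (r ⁻¹ᵁ U) (InvX.pullElt r e) = c.app U e :=
      congrArg (fun g : M ⟶ (Scheme.Modules.pushforward r).obj N => g.app U e) hφ
    rw [h1]
    have h2 : (show Γ(N, r ⁻¹ᵁ U) from c.app U e) =
        AModX.res N (le_top : r ⁻¹ᵁ U ≤ ⊤) (Twist.globalOf ℬ ⟨ψ t, ψ.map_mem ht⟩) := by
      refine Subtype.ext (funext fun z => Subtype.ext ?_)
      refine (GrTwist.locMap_mk ψ (irrelevant_le_map hψ) z.1 t _).trans ?_
      exact congrArg (Localization.mk (ψ t)) (Subtype.ext (map_one ψ))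
    show InvX.IsFrame (show Γ(N, r ⁻¹ᵁ U) from c.app U e)
    rw [h2]
    exact TwistX.isFrame_res_globalOf (ψ.map_mem ht) (fun x => x.2)
  exact ⟨asIso φ⟩

/-- The kernel on a standard chart of a graded quotient by a linear form. -/
theorem ker_app_eq_span [IsDomain A] (ψ : 𝒜 →+*ᵍ ℬ) (hψ : Function.Surjective ψ) {a t : A} (ha : a ∈ 𝒜 1)
    (ht : t ∈ 𝒜 1) (hker : ∀ p, ψ p = 0 ↔ a ∣ p) :
    RingHom.ker ((Proj.map ψ (irrelevant_le_map hψ)).app (Proj.basicOpen 𝒜 t)).hom =
      Ideal.span {(Proj.awayToSection 𝒜 t).hom (Away.mk 𝒜 ht 1 a (by rwa [one_smul]))} := by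
  classical
  let f := Proj.map ψ (irrelevant_le_map hψ)
  have key : ∀ x : Away 𝒜 t, f.app (Proj.basicOpen 𝒜 t) ((Proj.awayToSection 𝒜 t).hom x) =
      (Proj.awayToSection ℬ (ψ t)).hom (Away.map ψ t x) := fun x => by
    rw [Scheme.Hom.app_eq_appLE]
    exact congr($(Proj.awayToSection_comp_appLE ψ (irrelevant_le_map hψ) ht).hom x)
  haveI : IsIso (Proj.awayToSection 𝒜 t) := (Proj.basicOpenIsoAway 𝒜 t ht one_pos).isIso_hom
  haveI : IsIso (Proj.awayToSection ℬ (ψ t)) := (Proj.basicOpenIsoAway ℬ (ψ t) (ψ.map_mem ht) one_pos).isIso_hom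
  refine le_antisymm (fun y hy => ?_) ((Ideal.span_singleton_le_iff_mem _).2 ?_)
  · obtain ⟨x, rfl⟩ := (ConcreteCategory.bijective_of_isIso (Proj.awayToSection 𝒜 t)).2 y
    rw [RingHom.mem_ker] at hy
    have hx : Away.map ψ t x = 0 := (ConcreteCategory.bijective_of_isIso (Proj.awayToSection ℬ (ψ t))).1
      (((key x).symm.trans hy).trans (map_zero _).symm)
    obtain ⟨m, z, hz, rfl⟩ := x.mk_surjective 𝒜 ht
    have hv := congrArg HomogeneousLocalization.val hx
    rw [Away.map_mk, Away.val_mk, HomogeneousLocalization.val_zero, ← Localization.mk_zero (1 : Submonoid.powers (ψ t)),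
      Localization.mk_eq_mk_iff, Localization.r_iff_exists] at hv
    obtain ⟨⟨_, k, rfl⟩, hk⟩ := hv
    have hk' : ψ (t ^ (k + 1) * z) = 0 := by
      simp only [Submonoid.coe_one, one_mul, mul_zero] at hk
      rw [map_mul, map_pow, pow_succ', mul_assoc, hk, mul_zero]
    obtain ⟨g, hg⟩ := (hker _).1 hk'
    let g' := GradedRing.proj 𝒜 (k + m) g
    have hg' : g' ∈ 𝒜 (k + m) := by
      show ((DirectSum.decompose 𝒜 g (k + m) : 𝒜 (k + m)) : A) ∈ _
      exact SetLike.coe_mem _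
    have hmem : t ^ (k + 1) * z ∈ 𝒜 (1 + (k + m)) := by
      have := SetLike.mul_mem_graded (SetLike.pow_mem_graded (k + 1) ht) hz
      convert this using 2
      simp; ring
    have hag : a * g' = t ^ (k + 1) * z := by
      have h1 := DirectSum.coe_decompose_mul_add_of_left_mem 𝒜 (j := k + m) (b := g) ha
      rw [← hg, DirectSum.decompose_of_mem_same _ hmem] at h1
      exact h1.symm
    refine Ideal.mem_span_singleton'.2 ⟨(Proj.awayToSection 𝒜 t).hom (Away.mk 𝒜 ht (k + m) g' (by simpa using hg')), ?_⟩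
    rw [← map_mul]
    refine congrArg _ (HomogeneousLocalization.val_injective _ ?_)
    rw [HomogeneousLocalization.val_mul, Away.val_mk, Away.val_mk, Away.val_mk, Localization.mk_mul,
      Localization.mk_eq_mk_iff, Localization.r_iff_exists]
    refine ⟨1, ?_⟩
    simp only [Submonoid.coe_one, one_mul, Submonoid.coe_mul]
    rw [mul_comm g' a, hag]
    ring
  · rw [RingHom.mem_ker]
    refine (key _).trans ((congrArg _ ?_).trans (map_zero _))
    refine HomogeneousLocalization.val_injective _ ?_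
    rw [Away.map_mk, Away.val_mk, HomogeneousLocalization.val_zero]
    simp [(hker a).2 dvd_rfl, Localization.mk_zero]

end Groth.Agent.LinHyp

namespace Groth.Agent.LinHyp

open Groth.Agent

theorem hyperplane_iso (k : Type u) [Field k] (n : ℕ)
    (s : Coh.structureModule (CohB1.ProjSpace (n + 1) k) ⟶ Twist.twistProjSpace (n + 1) k 1) (hs : s ≠ 0) :
    ∃ φ : CohB1.ProjSpace n k ≅ (PicF2.zeroScheme _ s).subscheme,
      Nonempty ((Scheme.Modules.pullback (φ.hom ≫ (PicF2.zeroScheme _ s).subschemeι)).obj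
        (Twist.twistProjSpace (n + 1) k 1) ≅ Twist.twistProjSpace n k 1) := by
  classical
  let 𝒜 := CohB1.polyGrading (n + 1) k
  let L : (Proj 𝒜).Modules := Twist.twist 𝒜 ((1 : ℕ) : ℤ)
  let s' : Coh.structureModule (Proj 𝒜) ⟶ L := s
  let σ : Γ(L, (⊤ : (Proj 𝒜).Opens)) := ZeroSchX.sv s' ⊤
  obtain ⟨⟨a, ha⟩, hσ⟩ := PnCoh.exists_globalOf_eq (ι := Fin (n + 1 + 1)) (R := k) (d := 1)
    (σ : PnCoh.TwTop (Fin (n + 1 + 1)) k ((1 : ℕ) : ℤ))
  have ha0 : a ≠ 0 := fun h0 => by
    subst h0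
    have hσ0 : σ = 0 := hσ.symm.trans (Subtype.ext (funext fun x => Subtype.ext (Localization.mk_zero _)))
    apply hs
    refine Scheme.Modules.hom_ext _ _ fun V => ?_
    ext r
    show s'.app V r = 0
    have h1 : s'.app V r = (show Γ(Proj 𝒜, V) from r) • ZeroSchX.sv s' V := by
      refine Eq.trans ?_ (Scheme.Modules.Hom.app_smul s' (show Γ(Proj 𝒜, V) from r)
        (show Γ(Coh.structureModule (Proj 𝒜), V) from (1 : Γ(Proj 𝒜, V))))
      exact congrArg (fun z : Γ(Coh.structureModule (Proj 𝒜), V) => s'.app V z)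
        ((mul_one (show Γ(Proj 𝒜, V) from r)).symm : (show Γ(Proj 𝒜, V) from r) = (show Γ(Proj 𝒜, V) from r) * 1)
    rw [h1, ← ZeroSchX.res_sv s' (le_top : V ≤ ⊤)]
    change _ • AModX.res L _ σ = 0
    rw [hσ0]
    exact (congrArg _ (map_zero _)).trans (smul_zero _)
  obtain ⟨ψ, hsurj, hhom, hker⟩ := exists_elim (n := n) a ha ha0
  let Ψ : 𝒜 →+*ᵍ CohB1.polyGrading n k := ⟨ψ.toRingHom, fun {i p} hp => hhom i p hp⟩
  have hΨ : Function.Surjective Ψ := hsurj
  let f := Proj.map Ψ (irrelevant_le_map hΨ)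
  haveI : IsClosedImmersion f := Proj16.isClosedImmersion_map Ψ _ hΨ
  have hX : ∀ j : Fin (n + 1 + 1), (MvPolynomial.X j : MvPolynomial (Fin (n + 1 + 1)) k) ∈ 𝒜 1 :=
    fun j => isHomogeneous_X k j
  have hcov : ⨆ j, Proj.basicOpen 𝒜 (MvPolynomial.X j) = ⊤ :=
    Proj.iSup_basicOpen_eq_top 𝒜 _ (by
      rw [irrelevant_eq_span_degOne, Ideal.span_le]
      intro p hp
      rw [linForm_eq_sum (show p.IsHomogeneous 1 from hp)]
      exact Ideal.sum_mem _ fun j _ => Ideal.mul_mem_left _ _ (Ideal.subset_span ⟨j, rfl⟩))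
  have hfr : ∀ j, InvX.IsFrame (AModX.res L (le_top : Proj.basicOpen 𝒜 (MvPolynomial.X j) ≤ ⊤)
      (Twist.globalOf 𝒜 ⟨MvPolynomial.X j, hX j⟩)) := fun j =>
    TwistX.isFrame_res_globalOf (hX j) (PnCoh.Chow.nonVan_basicOpen _)
  have hL : PicF.IsInvertible L := InvX.isInvertible_of_frames fun z => by
    obtain ⟨j, hj⟩ := Opens.mem_iSup.1 (hcov.ge (trivial : z ∈ (⊤ : (Proj 𝒜).Opens)))
    exact ⟨_, hj, _, hfr j⟩
  have hkerI : f.ker = PicF2.zeroScheme L s' := by
    refine Scheme.IdealSheafData.ext_of_iSup_eq_top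
      (fun j => ⟨_, Proj.isAffineOpen_basicOpen 𝒜 _ (hX j) one_pos⟩) hcov fun j => ?_
    rw [Scheme.Hom.ker_apply, ZeroSchX.ideal_zeroScheme hL]
    refine (ker_app_eq_span Ψ hΨ ha (hX j) hker).trans (ZeroSchX.zeroIdealOn_eq_span s' (hfr j) ?_).symm
    rw [← ZeroSchX.res_sv s' (le_top : Proj.basicOpen 𝒜 (MvPolynomial.X j) ≤ ⊤)]
    exact (congrArg (AModX.res L le_top) hσ.symm).trans (globalOf_eq_smul ha (hX j))
  show ∃ φ : CohB1.ProjSpace n k ≅ (PicF2.zeroScheme L s').subscheme,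
    Nonempty ((Scheme.Modules.pullback (φ.hom ≫ (PicF2.zeroScheme L s').subschemeι)).obj L ≅ _)
  rw [← hkerI]
  refine ⟨@asIso _ _ _ _ f.toImage inferInstance, ?_⟩
  obtain ⟨e⟩ := nonempty_pullback_twist_iso Ψ hΨ (irrelevant_eq_span_degOne (n + 1))
  refine ⟨(Scheme.Modules.pullbackCongr ?_).app L ≪≫ e⟩
  exact f.toImage_imageι

end Groth.Agent.LinHyp
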